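import Mathlib.CategoryTheory.Adjunction.Basic
import Mathlib.CategoryTheory.Adjunction.Mates

/-! # Base change of units and counits for a square of right adjoints -/

universe v₁ v₂ v₃ v₄ u₁ u₂ u₃ u₄

open CategoryTheory

namespace Groth.Agent.MateTrace7

variable {A : Type u₁} [Category.{v₁} A] {B : Type u₂} [Category.{v₂} B] {C : Type u₃} [Category.{v₃} C]
  {D : Type u₄} [Category.{v₄} D]
variable {F : B ⥤ D} {F' : A ⥤ C} {G : C ⥤ D} {G' : A ⥤ B} {L : D ⥤ C} {L' : B ⥤ A} {a : D ⥤ B} {a' : C ⥤ A}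
variable (adj : F ⊣ a) (adj' : F' ⊣ a') (adjg : L ⊣ G) (adjg' : L' ⊣ G') (e : G' ⋙ F ≅ F' ⋙ G)

/-- the comparison map -/
abbrev xi (M : C) : G'.obj (a'.obj M) ⟶ a.obj (G.obj M) :=
  adj.homEquiv _ _ (e.hom.app (a'.obj M) ≫ G.map (adj'.counit.app M))

/-- base change of the right adjoints -/
noncomputable abbrev bc (K : D) [IsIso (xi adj adj' e (L.obj K))] : L'.obj (a.obj K) ⟶ a'.obj (L.obj K) :=
  L'.map (a.map (adjg.unit.app K)) ≫ L'.map (inv (xi adj adj' e (L.obj K))) ≫ adjg'.counit.app (a'.obj (L.obj K))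

/-- base change of the left adjoints -/
abbrev bcP (M : B) : L.obj (F.obj M) ⟶ F'.obj (L'.obj M) :=
  (adjg.homEquiv _ _).symm (F.map (adjg'.unit.app M) ≫ e.hom.app (L'.obj M))

theorem homEquiv_bc (K : D) [IsIso (xi adj adj' e (L.obj K))] :
    adjg'.homEquiv _ _ (bc adj adj' adjg adjg' e K) =
      a.map (adjg.unit.app K) ≫ inv (xi adj adj' e (L.obj K)) := by
  rw [bc, ← Functor.map_comp_assoc, Adjunction.homEquiv_unit, Functor.map_comp,
    ← Category.assoc]
  have := adjg'.unit.naturality (a.map (adjg.unit.app K) ≫ inv (xi adj adj' e (L.obj K)))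
  simp only [Functor.id_map, Functor.comp_map] at this
  dsimp at this ⊢
  rw [← this]
  simp

theorem counit_compat (K : D) [IsIso (xi adj adj' e (L.obj K))] :
    bcP adjg adjg' e (a.obj K) ≫ F'.map (bc adj adj' adjg adjg' e K) ≫ adj'.counit.app (L.obj K) =
      L.map (adj.counit.app K) := by
  apply (adjg.homEquiv _ _).injective
  rw [Adjunction.homEquiv_naturality_right, Equiv.apply_symm_apply, Functor.map_comp, Category.assoc]
  have h1 := e.hom.naturality_assoc (bc adj adj' adjg adjg' e K) (G.map (adj'.counit.app (L.obj K)))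
  simp only [Functor.comp_map, Functor.comp_obj] at h1
  have h2 : e.hom.app (a'.obj (L.obj K)) ≫ G.map (adj'.counit.app (L.obj K)) =
      F.map (xi adj adj' e (L.obj K)) ≫ adj.counit.app (G.obj (L.obj K)) := by
    simp [xi, Adjunction.homEquiv_unit]
  have h3 : adjg'.unit.app (a.obj K) ≫ G'.map (bc adj adj' adjg adjg' e K) =
      a.map (adjg.unit.app K) ≫ inv (xi adj adj' e (L.obj K)) := by
    rw [← homEquiv_bc, Adjunction.homEquiv_unit]
  have h4 : adjg.homEquiv _ _ (L.map (adj.counit.app K)) = adj.counit.app K ≫ adjg.unit.app K := by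
    rw [Adjunction.homEquiv_unit]
    exact (adjg.unit.naturality (adj.counit.app K)).symm
  dsimp only [Functor.id_obj, Functor.comp_obj] at h4 ⊢
  rw [h4, ← h1, h2, ← Category.assoc, ← Functor.map_comp, h3,
    ← Functor.map_comp_assoc, Category.assoc, IsIso.inv_hom_id, Category.comp_id]
  exact adj.counit.naturality (adjg.unit.app K)

theorem unit_compat (M : B) (h : ∀ N, IsIso (xi adj adj' e N)) :
    haveI := h (L.obj (F.obj M))
    adj'.unit.app (L'.obj M) =
      L'.map (adj.unit.app M) ≫ bc adj adj' adjg adjg' e (F.obj M) ≫ a'.map (bcP adjg adjg' e M) := by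
  haveI := h (L.obj (F.obj M))
  haveI := h (F'.obj (L'.obj M))
  apply (adjg'.homEquiv _ _).injective
  dsimp only [Functor.id_obj, Functor.comp_obj]
  rw [Adjunction.homEquiv_naturality_left, Adjunction.homEquiv_naturality_right, homEquiv_bc,
    Adjunction.homEquiv_unit, ← cancel_mono (xi adj adj' e (F'.obj (L'.obj M))), Category.assoc, Category.assoc,
    Category.assoc, Category.assoc]
  have hn : G'.map (a'.map (bcP adjg adjg' e M)) ≫ xi adj adj' e (F'.obj (L'.obj M)) =
      xi adj adj' e (L.obj (F.obj M)) ≫ a.map (G.map (bcP adjg adjg' e M)) := by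
    rw [xi, xi, ← Adjunction.homEquiv_naturality_left, ← Adjunction.homEquiv_naturality_right]
    congr 1
    have h1 := e.hom.naturality_assoc (a'.map (bcP adjg adjg' e M)) (G.map (adj'.counit.app (F'.obj (L'.obj M))))
    simp only [Functor.comp_map, Functor.comp_obj] at h1
    rw [h1, Category.assoc, ← G.map_comp, ← G.map_comp]
    erw [adj'.counit.naturality (bcP adjg adjg' e M)]
    rfl
  rw [hn, IsIso.inv_hom_id_assoc, ← a.map_comp]
  have h5 : adjg.unit.app (F.obj M) ≫ G.map (bcP adjg adjg' e M) = F.map (adjg'.unit.app M) ≫ e.hom.app (L'.obj M) := by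
    simp [bcP, Adjunction.homEquiv_counit]
  rw [h5]
  erw [← adj.homEquiv_unit (f := F.map (adjg'.unit.app M) ≫ e.hom.app (L'.obj M))]
  rw [xi, ← Adjunction.homEquiv_naturality_left, ← Adjunction.homEquiv_naturality_left]
  congr 1
  have h1 := e.hom.naturality_assoc (adj'.unit.app (L'.obj M)) (G.map (adj'.counit.app (F'.obj (L'.obj M))))
  simp only [Functor.comp_map, Functor.comp_obj] at h1
  erw [h1]
  dsimp only [Functor.id_obj]
  rw [← G.map_comp, adj'.left_triangle_components, G.map_id, Category.comp_id]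

end Groth.Agent.MateTrace7
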